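/-
Data for the centraliser of the product of the transpositions at the two ends of the diagram of Fi22.
-/
import Cfsg.Agent.Lib.CosetEnum.Basic

set_option autoImplicit false
set_option maxRecDepth 1000000

namespace CfsgLib.CosetEnum.Fi22Pair

/-- Ten words generating the normal subgroup of order 1024, the two transpositions first. -/
def bws : List (List ℕ) := [[0],
  [6],
  [2, 3, 1, 2, 0, 1, 0, 1, 0, 2, 1, 3, 2, 4, 3, 1, 2, 0, 1, 0, 1, 0, 2, 1, 3, 4],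
  [7, 8, 1, 2, 3, 7, 4, 3, 2, 1, 0, 1, 2, 3, 4, 7, 3, 2, 1, 8, 7, 7, 8, 5, 4, 3, 7, 6, 5, 4, 3, 1, 2, 0, 1, 0, 1, 0, 2, 1, 3, 4, 5, 6, 7, 3, 4, 5, 8, 7],
  [1, 2, 0, 1, 0, 1, 0, 2, 1, 3, 4, 2, 3, 1, 2, 0, 1, 0, 1, 0, 2, 1, 3, 2, 4, 3],
  [2, 3, 1, 2, 0, 1, 0, 1, 0, 2, 1, 3, 2, 7, 8, 3, 7, 1, 2, 3, 4, 0, 1, 2, 3, 7, 8, 3, 4, 5, 2, 3, 4, 1, 2, 3, 7, 6, 5, 4, 3, 2, 1, 0, 1, 2, 3, 4, 5, 6, 7, 3, 2, 1, 4, 3, 2, 5, 4, 3, 8, 7, 3, 2, 1, 0, 4, 3, 2, 1, 7, 3, 8, 7],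
  [7, 4, 2, 3, 1, 2, 0, 1, 0, 1, 0, 2, 1, 3, 2, 4, 7, 7, 3, 1, 2, 0, 1, 0, 1, 0, 2, 1, 3, 7],
  [8, 1, 2, 3, 7, 4, 3, 2, 1, 0, 1, 2, 3, 4, 7, 3, 2, 1, 8, 8, 5, 4, 3, 7, 6, 5, 4, 3, 1, 2, 0, 1, 0, 1, 0, 2, 1, 3, 4, 5, 6, 7, 3, 4, 5, 8],
  [8, 7, 4, 2, 3, 1, 2, 0, 1, 0, 1, 0, 2, 1, 3, 2, 4, 7, 8, 8, 7, 3, 1, 2, 0, 1, 0, 1, 0, 2, 1, 3, 7, 8],
  [1, 2, 3, 7, 4, 3, 2, 1, 0, 1, 2, 3, 4, 7, 3, 2, 1, 5, 4, 3, 7, 6, 5, 4, 3, 1, 2, 0, 1, 0, 1, 0, 2, 1, 3, 4, 5, 6, 7, 3, 4, 5]]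

/-- Conjugators of six transpositions centralising the pair. -/
def kvs : List (List ℕ) := [[1, 2, 0, 1],
  [2, 3, 1, 2, 0, 1],
  [3, 4, 2, 3, 1, 2, 0, 1],
  [3, 7, 2, 3, 1, 2, 0, 1],
  [7, 8, 3, 7, 2, 3, 1, 2, 0, 1],
  [7, 4, 5, 3, 4, 1, 2, 3, 7, 6, 5, 4, 3, 2, 1]]

/-- A word exchanging the pair. -/
def sigW : List ℕ := [1, 2, 3, 4, 5, 6, 0, 1, 2, 3, 4, 5, 3, 4, 2, 3, 1, 2, 0, 1]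

/-- For six transpositions and the exchanging word, the images of the ten words as sets of the ten. -/
def cmasks : List (List ℕ) := [[1, 2, 20, 8, 16, 681, 80, 128, 272, 512],
  [1, 2, 4, 40, 20, 32, 64, 128, 256, 512],
  [1, 2, 20, 8, 16, 682, 80, 128, 272, 512],
  [1, 2, 80, 128, 16, 168, 20, 8, 256, 512],
  [1, 2, 4, 8, 16, 32, 256, 512, 64, 128],
  [1, 2, 528, 754, 516, 205, 596, 660, 493, 512],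
  [2, 1, 4, 24, 16, 39, 576, 128, 384, 512]]

/-- For the same elements, the quotient of their images under the diagram automorphism. -/
def tmasks : List ℕ := [16, 0, 16, 0, 0, 532, 0]

/-- The transpositions centralising the pair: the point, and the path from one of the six. -/
def orbit : List (ℕ × List ℕ × ℕ) := [(6, [], 0),
  (10, [1], 0),
  (16, [], 1),
  (17, [2, 1], 0),
  (18, [3, 1], 0),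
  (26, [2], 1),
  (27, [3], 1),
  (29, [3, 2, 1], 0),
  (30, [4, 3, 1], 0),
  (40, [], 2),
  (42, [3, 2], 1),
  (43, [], 3),
  (44, [4, 3], 1),
  (47, [1, 3, 2, 1], 0),
  (48, [4, 3, 2, 1], 0),
  (59, [4, 3, 1, 5, 4, 3, 5], 2),
  (65, [4, 3, 2], 1),
  (66, [4], 3),
  (70, [4, 1, 3, 2, 1], 0),
  (86, [3, 1, 5, 4, 3, 5], 2),
  (92, [], 4),
  (97, [3, 4, 1, 3, 2, 1], 0),
  (118, [1, 5, 4, 3, 5], 2),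
  (152, [5, 4, 3, 5], 2),
  (155, [4, 3, 1, 2, 5, 3, 4, 5], 0),
  (172, [5, 3, 2], 1),
  (193, [0, 5, 4, 3, 5], 2),
  (194, [5, 3, 4, 5], 2),
  (196, [3, 1, 2, 5, 3, 4, 5], 0),
  (214, [3, 5], 2),
  (217, [4, 5, 3, 2], 1),
  (243, [0, 5, 3, 4, 5], 2),
  (246, [1, 2, 5, 3, 4, 5], 0),
  (266, [3, 2, 5], 0),
  (269, [5], 3),
  (270, [5], 2),
  (271, [4, 3, 5], 2),
  (274, [3, 4, 5, 3, 2], 1),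
  (308, [1, 0, 5, 3, 4, 5], 2),
  (311, [2, 5, 3, 4, 5], 0),
  (335, [3, 5], 0),
  (336, [2, 5], 0),
  (337, [4, 3, 2, 5], 0),
  (341, [], 5),
  (342, [4, 5], 3),
  (343, [4, 5], 2),
  (344, [2, 5, 4], 3),
  (347, [3, 1, 2, 5, 4], 3),
  (392, [5, 3, 2, 5, 4, 3, 1], 0),
  (394, [2, 5, 4, 3, 5], 0),
  (395, [5, 3, 4, 5], 0),
  (424, [5, 3, 1], 0),
  (425, [5], 0),
  (426, [4, 3, 5], 0),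
  (427, [5, 2, 1], 0),
  (428, [4, 2, 5], 0),
  (429, [2, 0, 5, 4], 3),
  (434, [5], 1),
  (435, [5], 4),
  (436, [5, 4], 3),
  (437, [3, 4, 5], 2),
  (438, [1, 2, 5, 4], 3),
  (442, [3, 0, 1, 2, 5, 4], 3),
  (443, [3, 5, 4, 3, 2], 1),
  (472, [4, 5, 3, 2, 5, 4, 3, 1], 0),
  (504, [5, 4, 3, 5], 0),
  (539, [4, 5, 3, 1], 0),
  (540, [4, 5], 0),
  (541, [0, 5, 4], 3),
  (542, [4, 5, 2, 1], 0),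
  (543, [3, 4, 2, 5], 0),
  (544, [1, 2, 0, 5, 4], 3),
  (550, [4, 5], 1),
  (551, [3, 5], 4),
  (552, [1, 5, 4], 3),
  (553, [1, 3, 4, 5], 2),
  (554, [0, 1, 2, 5, 4], 3),
  (555, [5, 4, 3, 2], 1),
  (562, [3, 0, 5, 4, 3, 2], 1),
  (636, [1, 5, 4, 3, 5], 0),
  (637, [4, 3, 1, 5, 4, 3, 5], 0),
  (676, [3, 4, 5, 3, 1], 0),
  (677, [3, 4, 5], 0),
  (678, [1, 0, 5, 4], 3),
  (679, [3, 4, 5, 2, 1], 0),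
  (680, [1, 3, 4, 2, 5], 0),
  (681, [0, 1, 2, 0, 5, 4], 3),
  (682, [1, 2, 1, 0, 5, 4], 3),
  (689, [3, 4, 5], 1),
  (690, [1, 3, 5], 4),
  (691, [0, 1, 5, 4], 3),
  (692, [2, 1, 5, 4], 3),
  (693, [0, 1, 3, 4, 5], 2),
  (694, [4, 5, 4, 3, 2], 1),
  (696, [0, 5, 4, 3, 2], 1),
  (708, [3, 5, 2, 1, 3, 4, 5], 0),
  (792, [3, 1, 5, 4, 3, 5], 0),
  (827, [3, 1, 0, 5, 4], 3),
  (828, [1, 3, 4, 5], 0),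
  (829, [5, 4, 3, 1], 0),
  (830, [2, 1, 0, 5, 4], 3),
  (831, [1, 3, 4, 5, 2, 1], 0),
  (832, [0, 1, 3, 4, 2, 5], 0),
  (833, [2, 1, 3, 4, 2, 5], 0),
  (835, [5, 3, 4, 5, 2, 1], 0),
  (846, [5, 4, 3], 1),
  (847, [0, 1, 3, 5], 4),
  (848, [2, 1, 3, 5], 4),
  (850, [2, 0, 1, 5, 4], 3),
  (853, [4, 0, 5, 4, 3, 2], 1),
  (857, [1, 0, 5, 4, 3, 2], 1),
  (875, [5, 2, 1, 3, 4, 5], 0),
  (988, [3, 5, 4, 3, 1], 0),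
  (989, [3, 2, 1, 0, 5, 4], 3),
  (990, [4, 5, 4, 3, 1], 0),
  (991, [2, 1, 3, 4, 5], 0),
  (993, [2, 5, 4, 3, 1], 0),
  (995, [2, 5, 4, 3, 2, 1], 0),
  (996, [0, 5, 4, 3, 2, 1], 0),
  (998, [3, 5, 4, 3, 2, 1], 0),
  (1002, [3, 5, 3, 4, 2, 5], 0),
  (1016, [0, 5, 4, 3], 1),
  (1017, [2, 5, 4, 3], 1),
  (1019, [2, 0, 1, 3, 5], 4),
  (1023, [5, 4, 1, 3, 2, 1], 0),
  (1028, [0, 5, 4, 3, 2, 5], 0),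
  (1035, [2, 5, 3, 4, 2, 5], 0),
  (1062, [4, 5, 2, 1, 3, 4, 5], 0),
  (1165, [3, 2, 5, 4, 3, 1], 0),
  (1168, [4, 2, 5, 4, 3, 1], 0),
  (1172, [1, 2, 5, 4, 3, 1], 0),
  (1176, [5, 4, 3, 2, 1], 0),
  (1179, [1, 3, 5, 4, 3, 2, 1], 0),
  (1185, [5, 3, 4, 2, 5], 0),
  (1202, [2, 0, 5, 4, 3], 1),
  (1205, [5, 4, 3, 2, 5], 0),
  (1212, [3, 5, 4, 1, 3, 2, 1], 0),
  (1218, [3, 0, 5, 4, 3, 2, 5], 0),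
  (1229, [4, 2, 5, 3, 4, 2, 5], 0),
  (1347, [1, 3, 2, 5, 4, 3, 1], 0),
  (1351, [2, 5, 4, 3, 2, 5], 0),
  (1357, [0, 5, 3, 4, 2, 5], 0),
  (1361, [1, 5, 4, 3, 2, 1], 0),
  (1366, [5, 3, 4, 1, 3, 2, 1], 0),
  (1376, [4, 5, 3, 4, 2, 5], 0),
  (1396, [1, 2, 0, 5, 4, 3], 1),
  (1402, [3, 5, 4, 3, 2, 5], 0),
  (1413, [5, 4, 3, 5, 4, 2, 5], 0),
  (1423, [4, 3, 0, 5, 4, 3, 2, 5], 0),
  (1525, [5, 0, 1, 3, 4, 5], 2),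
  (1530, [3, 2, 5, 4, 3, 2, 5], 0),
  (1540, [4, 0, 5, 3, 4, 2, 5], 0),
  (1543, [3, 1, 5, 4, 3, 2, 1], 0),
  (1551, [3, 4, 5, 3, 4, 2, 5], 0),
  (1581, [1, 3, 5, 4, 3, 2, 5], 0),
  (1590, [4, 3, 5, 4, 3, 2, 5], 0),
  (1710, [4, 5, 0, 1, 3, 4, 5], 2),
  (1716, [4, 3, 2, 5, 4, 3, 2, 5], 0),
  (1734, [4, 3, 1, 5, 4, 3, 2, 1], 0),
  (1779, [4, 1, 3, 5, 4, 3, 2, 5], 0),
  (2125, [5, 4, 2, 5], 0),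
  (2179, [3, 5, 2, 0, 5, 4], 3),
  (2364, [3, 5, 4, 2, 5], 0),
  (2433, [5, 2, 0, 5, 4], 3),
  (2608, [1, 3, 5, 4, 2, 5], 0),
  (2609, [4, 3, 5, 4, 2, 5], 0),
  (2691, [5, 2, 0, 5, 4, 3], 1),
  (2692, [4, 5, 2, 0, 5, 4], 3),
  (2855, [5, 2, 1, 0, 5, 4], 3),
  (2856, [5, 0, 1, 2, 5, 4], 3),
  (2857, [4, 1, 3, 5, 4, 2, 5], 0),
  (2942, [4, 5, 2, 0, 5, 4, 3], 1),
  (3085, [4, 5, 2, 1, 0, 5, 4], 3),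
  (3086, [4, 5, 0, 1, 2, 5, 4], 3),
  (3087, [3, 4, 1, 3, 5, 4, 2, 5], 0),
  (3163, [3, 4, 5, 2, 0, 5, 4, 3], 1),
  (3270, [3, 4, 5, 2, 1, 0, 5, 4], 3),
  (3271, [3, 4, 5, 0, 1, 2, 5, 4], 3),
  (3399, [5, 4, 3, 0, 5, 4, 3, 2, 5], 0),
  (3400, [5, 4, 3, 2, 5, 4, 3, 2, 5], 0)]

end CfsgLib.CosetEnum.Fi22Pair
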