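/-
The word identities checked for the centraliser of a product of two commuting transpositions of Fi22.
-/
import Cfsg.Agent.Lib.CosetEnum.Fi22Pair.Data
import Cfsg.Agent.Lib.CosetEnum.Fi22Aut.Fun

set_option autoImplicit false
set_option maxRecDepth 1000000

namespace CfsgLib.CosetEnum.Fi22Pair

open Fi22Aut (sw)

/-- The points of the nine generators. -/
def pts9 : List ℕ := (List.range 9).map fun x => Fi22Aut.genPts.getD x 0

/-- Two words act equally on the points of the generators. -/
noncomputable def eqW (u v : List ℕ) : Bool :=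
  pts9.all fun p => Nat.beq (runT Fi3510.table 9 u.reverse p) (runT Fi3510.table 9 v.reverse p)

/-- One of the ten words. -/
def bw (i : ℕ) : List ℕ := bws.getD i []

/-- The ordered product of the ten words selected by a mask. -/
def ow (m : ℕ) : List ℕ :=
  ((List.range 10).filter fun i => Nat.beq (m / 2 ^ i % 2) 1).flatMap bw

/-- The six transpositions. -/
def tr (i : ℕ) : List ℕ := kvs.getD i [] ++ [0] ++ (kvs.getD i []).reverse

/-- The six transpositions and the exchanging word. -/
def mv (s : ℕ) : List ℕ := if s < 6 then tr s else sigW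

/-- The conjugator along a path. -/
def vw (path : List ℕ) (i : ℕ) : List ℕ := path.flatMap tr ++ kvs.getD i []

/-- The commutator of two of the ten. -/
def ce (i k : ℕ) : List ℕ := if 2 ≤ i ∧ i / 2 = k / 2 ∧ i ≠ k then [0, 6] else []

/-- A word conjugating the product to one of the ten. -/
def gW : List ℕ := [2, 3, 1, 2, 0, 1, 5, 6, 4, 5]

/-- All letters are generators. -/
def ltW (w : List ℕ) : Bool := w.all fun x => Nat.blt x 9

noncomputable def fComm (i : ℕ) : Bool :=
  (List.range 10).all fun k => eqW (bw i ++ bw k ++ (bw i).reverse ++ (bw k).reverse) (ce i k)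

noncomputable def fSq : Bool :=
  (List.range 10).all fun i => eqW (bw i ++ bw i) [] || eqW (bw i ++ bw i) [0, 6]

noncomputable def fSw : Bool :=
  (List.range 10).all fun i => Nat.blt i 2 || eqW ((bw i).map sw) (bw i)

noncomputable def fConj (s : ℕ) : Bool :=
  (List.range 10).all fun i => eqW (mv s ++ bw i ++ (mv s).reverse) (ow ((cmasks.getD s []).getD i 0))

noncomputable def fTheta : Bool :=
  (List.range 7).all fun s => eqW ((mv s).map sw ++ (mv s).reverse) (ow (tmasks.getD s 0))

noncomputable def fPair : Bool :=
  (List.range 6).all fun s => eqW (tr s ++ [0]) ([0] ++ tr s) && eqW (tr s ++ [6]) ([6] ++ tr s)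

noncomputable def fSwap : Bool := eqW (sigW ++ [0]) ([6] ++ sigW) && eqW (sigW ++ [6]) ([0] ++ sigW)

noncomputable def fMoves : Bool :=
  !eqW (tr 0 ++ tr 1) (tr 1 ++ tr 0) &&
  !eqW (tr 0 ++ bw 2 ++ (tr 0).reverse ++ (bw 2).reverse) [] &&
  !eqW (tr 0 ++ bw 2 ++ (tr 0).reverse ++ (bw 2).reverse) [0] &&
  !eqW (tr 0 ++ bw 2 ++ (tr 0).reverse ++ (bw 2).reverse) [6] &&
  !eqW (tr 0 ++ bw 2 ++ (tr 0).reverse ++ (bw 2).reverse) [0, 6]

noncomputable def fWit : Bool := eqW (gW ++ [0, 6] ++ gW.reverse) (bw 2)

noncomputable def fEntry : Bool :=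
  orbit.all fun e => Nat.blt e.2.2 6 && e.2.1.all (fun x => Nat.blt x 6) &&
    Nat.beq (runT Fi3510.table 9 (vw e.2.1 e.2.2).reverse 0) e.1

/-- The points fixed by both transpositions are listed. -/
noncomputable def fCover (d : ℕ) : Bool :=
  !(Nat.beq (runT Fi3510.table 9 [0] d) d && Nat.beq (runT Fi3510.table 9 [6] d) d) ||
    (Nat.beq d 0 || (Nat.beq d (Fi22Aut.genPts.getD 6 0) || orbit.any fun e => Nat.beq e.1 d))

theorem lt_bw : (List.range 10).all (fun i => ltW (bw i)) = true := by decide +kernel

theorem lt_mv : (List.range 7).all (fun s => ltW (mv s)) = true := by decide +kernel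

theorem lt_kv : kvs.all ltW = true := by decide +kernel

theorem lt_gw : ltW gW = true := by decide +kernel

theorem comm_ok : (List.range 10).all fComm = true := by decide +kernel

theorem sq_ok : fSq = true := by decide +kernel

theorem sw_ok : fSw = true := by decide +kernel

theorem conj_ok : (List.range 7).all fConj = true := by decide +kernel

theorem theta_ok : fTheta = true := by decide +kernel

theorem pair_ok : fPair = true := by decide +kernel

theorem swap_ok : fSwap = true := by decide +kernel

theorem moves_ok : fMoves = true := by decide +kernel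

theorem wit_ok : fWit = true := by decide +kernel

theorem entry_ok : fEntry = true := by decide +kernel

theorem cover0_ok : okRange fCover 0 1755 = true := by decide +kernel

theorem cover1_ok : okRange fCover 1755 1755 = true := by decide +kernel

end CfsgLib.CosetEnum.Fi22Pair
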