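/-
The pair of transpositions at the ends of the diagram of Fi22 with the diagram automorphism.
-/
import Cfsg.Agent.Lib.CosetEnum.Fi22Pair.Check
import Cfsg.Agent.Lib.CosetEnum.Fi22Aut.Main
import Cfsg.Agent.Lib.ThreeTrans.M22.PairAut

set_option autoImplicit false
set_option maxRecDepth 1000000

namespace CfsgLib.CosetEnum.Fi22Pair

local instance finGrp : Finite presFi22.Grp := Cfsg.Agent.S1696.upper.1

open CfsgLib.CosetEnum.Fi22Aut (sw qOf qOf_lt pt_gen pt_zero tz hid stabIsCent θ θA θ_σ central_one)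

/-- The product along a word. -/
noncomputable def pr (w : List ℕ) : presFi22.Grp := (w.map presFi22.σ).prod

theorem pr_append (v w : List ℕ) : pr (v ++ w) = pr v * pr w := by simp [pr]

theorem pr_nil : pr [] = 1 := by simp [pr]

theorem pr_one (x : ℕ) : pr [x] = presFi22.σ x := by simp [pr]

theorem pr_zero_six : pr [0, 6] = presFi22.σ 0 * presFi22.σ 6 := by simp [pr]

theorem pr_rev (w : List ℕ) : pr w.reverse = (pr w)⁻¹ := prod_reverse_inv presFi22.σ presFi22.σ_sq w

theorem lt_of {w : List ℕ} (h : ltW w = true) : ∀ x ∈ w, x < presFi22.k := fun x hx =>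
  blt_iff.mp (List.all_eq_true.mp h x hx)

theorem ltW_append {v w : List ℕ} (hv : ltW v = true) (hw : ltW w = true) : ltW (v ++ w) = true := by
  simp only [ltW, List.all_append, Bool.and_eq_true]
  exact ⟨hv, hw⟩

theorem ltW_rev {v : List ℕ} (hv : ltW v = true) : ltW v.reverse = true := by
  simpa [ltW, List.all_reverse] using hv

theorem hom_pr {w : List ℕ} (hw : ltW w = true) (d : Fin Fi3510.cert.T.n) :
    (Fi3510.cert.hom Fi3510.hlt (pr w) d : ℕ) = runT Fi3510.table 9 w.reverse d :=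
  Fi3510.cert.hom_word_run' Fi3510.hlt hid w (lt_of hw) d

theorem sound {u v : List ℕ} (hu : ltW u = true) (hv : ltW v = true) (h : eqW u v = true) : pr u = pr v := by
  have key : (pr v)⁻¹ * pr u = 1 := by
    refine central_one fun a ha => ?_
    obtain ⟨x, hx, rfl⟩ := Fi22Aut.conf_mem ha
    refine (Fi3510.cert.isPt_fix Fi3510.hlt stabIsCent (pt_gen x hx) _).mp ?_
    have hq : Fi3510.cert.hom Fi3510.hlt (pr u) ⟨qOf x, qOf_lt x hx⟩ =
        Fi3510.cert.hom Fi3510.hlt (pr v) ⟨qOf x, qOf_lt x hx⟩ := Fin.ext (by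
      rw [hom_pr hu, hom_pr hv]
      exact Nat.eq_of_beq_eq_true (List.all_eq_true.mp h (qOf x)
        (List.mem_map.mpr ⟨x, List.mem_range.mpr hx, rfl⟩)))
    rw [map_mul, Equiv.Perm.mul_apply, hq, ← Equiv.Perm.mul_apply, ← map_mul, inv_mul_cancel, map_one,
      Equiv.Perm.one_apply]
  exact (inv_mul_eq_one.mp key).symm

theorem ne_of {u v : List ℕ} (hu : ltW u = true) (hv : ltW v = true) (h : eqW u v = false) : pr u ≠ pr v := by
  intro e
  have : eqW u v = true := List.all_eq_true.mpr fun p hp => by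
    obtain ⟨x, hx, rfl⟩ := List.mem_map.mp hp
    have h1 := hom_pr hu ⟨qOf x, qOf_lt x (List.mem_range.mp hx)⟩
    rw [e, hom_pr hv] at h1
    show Nat.beq (runT Fi3510.table 9 u.reverse (qOf x)) (runT Fi3510.table 9 v.reverse (qOf x)) = true
    rw [show runT Fi3510.table 9 u.reverse (qOf x) = runT Fi3510.table 9 v.reverse (qOf x) from h1.symm]
    exact Nat.beq_refl _
  rw [h] at this
  exact Bool.false_ne_true this

theorem lt0 : ltW [0] = true := by decide +kernel

theorem lt6 : ltW [6] = true := by decide +kernel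

theorem lt06 : ltW [0, 6] = true := by decide +kernel

theorem lt_bw' (i : ℕ) : ltW (bw i) = true := by
  by_cases hi : i < 10
  · exact List.all_eq_true.mp lt_bw i (List.mem_range.mpr hi)
  · rw [bw, List.getD_eq_default]
    · rfl
    · simp [bws]; omega

theorem lt_tr {s : ℕ} (hs : s < 6) : ltW (tr s) = true := by
  have := List.all_eq_true.mp lt_mv s (List.mem_range.mpr (by omega))
  rwa [mv, if_pos hs] at this

theorem lt_sig : ltW sigW = true := List.all_eq_true.mp lt_mv 6 (List.mem_range.mpr (by omega))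

theorem lt_kvi (i : ℕ) : ltW (kvs.getD i []) = true := by
  by_cases hi : i < kvs.length
  · rw [List.getD_eq_getElem _ _ hi]; exact List.all_eq_true.mp lt_kv _ (List.getElem_mem hi)
  · rw [List.getD_eq_default _ _ (by omega)]; rfl

theorem lt_ce (i k : ℕ) : ltW (ce i k) = true := by
  unfold ce
  split_ifs
  exacts [lt06, rfl]

theorem lt_ow (m : ℕ) : ltW (ow m) = true := by
  simp only [ow, ltW, List.all_flatMap, List.all_eq_true]
  exact fun i _ x hx => List.all_eq_true.mp (lt_bw' i) x hx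

/-- The eight remaining generators. -/
noncomputable def gU (k : Fin 4 × Bool) : presFi22.Grp := pr (bw (2 + 2 * k.1.val + cond k.2 1 0))

/-- The six transpositions. -/
noncomputable def gT : Set presFi22.Grp := {t | ∃ s < 6, t = pr (tr s)}

/-- The element exchanging the pair. -/
noncomputable def gS : presFi22.Grp := pr sigW

/-- The radical. -/
noncomputable def E0 : Subgroup presFi22.Grp :=
  CfsgThreeTrans.M22.PairAut.rad (presFi22.σ 0) (presFi22.σ 6) gU

theorem bw_mem {i : ℕ} (hi : i < 10) : pr (bw i) ∈ E0 := by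
  rcases Nat.lt_or_ge i 2 with h | h
  · interval_cases i
    · rw [show bw 0 = [0] from rfl, pr_one]; exact CfsgThreeTrans.M22.PairAut.a_mem_rad
    · rw [show bw 1 = [6] from rfl, pr_one]; exact CfsgThreeTrans.M22.PairAut.c_mem_rad
  · have hk : gU (⟨(i - 2) / 2, by omega⟩, decide ((i - 2) % 2 = 1)) = pr (bw i) := by
      unfold gU
      congr 2
      rcases Nat.mod_two_eq_zero_or_one (i - 2) with e | e <;> simp [e] <;> omega
    rw [← hk]
    exact CfsgThreeTrans.M22.PairAut.u_mem_rad _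

theorem ow_mem (m : ℕ) : pr (ow m) ∈ E0 := by
  unfold ow
  generalize hl : (List.range 10).filter (fun i => Nat.beq (m / 2 ^ i % 2) 1) = l
  have hlt : ∀ i ∈ l, i < 10 := fun i hi => List.mem_range.mp (List.mem_filter.mp (hl ▸ hi)).1
  clear hl
  induction l with
  | nil => rw [List.flatMap_nil, pr_nil]; exact one_mem _
  | cons i l ih =>
    rw [List.flatMap_cons, pr_append]
    exact mul_mem (bw_mem (hlt i List.mem_cons_self)) (ih fun k hk => hlt k (List.mem_cons_of_mem _ hk))

theorem comm06 : presFi22.σ 0 * presFi22.σ 6 = presFi22.σ 6 * presFi22.σ 0 := by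
  have h := sound (u := [0, 6]) (v := [6, 0]) lt06 (by decide +kernel) (by decide +kernel)
  simpa [pr] using h

theorem ne06 : presFi22.σ 0 ≠ presFi22.σ 6 := by
  have h := ne_of (u := [0]) (v := [6]) lt0 lt6 (by decide +kernel)
  simpa [pr] using h

theorem comm_bw {i k : ℕ} (hi : i < 10) (hk : k < 10) :
    pr (bw i) * pr (bw k) * (pr (bw i))⁻¹ * (pr (bw k))⁻¹ = pr (ce i k) := by
  have h := List.all_eq_true.mp (List.all_eq_true.mp comm_ok i (List.mem_range.mpr hi)) k (List.mem_range.mpr hk)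
  have := sound (ltW_append (ltW_append (ltW_append (lt_bw' i) (lt_bw' k)) (ltW_rev (lt_bw' i))) (ltW_rev (lt_bw' k)))
    (lt_ce i k) h
  rwa [pr_append, pr_append, pr_append, pr_rev, pr_rev] at this

theorem sq_bw {i : ℕ} (hi : i < 10) : pr (bw i) * pr (bw i) = 1 ∨
    pr (bw i) * pr (bw i) = presFi22.σ 0 * presFi22.σ 6 := by
  have h := List.all_eq_true.mp sq_ok i (List.mem_range.mpr hi)
  rw [Bool.or_eq_true] at h
  rw [← pr_append, ← pr_zero_six, ← pr_nil]
  exact h.imp (sound (ltW_append (lt_bw' i) (lt_bw' i)) rfl) (sound (ltW_append (lt_bw' i) (lt_bw' i)) lt06)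

theorem conj_mv {s i : ℕ} (hs : s < 7) (hi : i < 10) : pr (mv s) * pr (bw i) * (pr (mv s))⁻¹ ∈ E0 := by
  have h := List.all_eq_true.mp (List.all_eq_true.mp conj_ok s (List.mem_range.mpr hs)) i (List.mem_range.mpr hi)
  have hm := List.all_eq_true.mp lt_mv s (List.mem_range.mpr hs)
  have := sound (ltW_append (ltW_append hm (lt_bw' i)) (ltW_rev hm)) (lt_ow _) h
  simp only [pr_append, pr_rev] at this
  rw [this]; exact ow_mem _

theorem θ_pr {w : List ℕ} (hw : ltW w = true) : θA (pr w) = pr (w.map sw) := by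
  show θ (pr w) = _
  induction w with
  | nil => simp [pr]
  | cons x w ih =>
    simp only [ltW, List.all_cons, Bool.and_eq_true] at hw
    rw [List.map_cons, show x :: w = [x] ++ w from rfl, show sw x :: w.map sw = [sw x] ++ w.map sw from rfl,
      pr_append, pr_append, pr_one, pr_one, map_mul, θ_σ (blt_iff.mp hw.1), ih hw.2]

theorem ltW_sw {w : List ℕ} (hw : ltW w = true) : ltW (w.map sw) = true := by
  rw [ltW, List.all_map, List.all_eq_true]
  exact fun x hx => blt_iff.mpr (Fi22Aut.sw_lt x (lt_of hw x hx))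

theorem θ_mv {s : ℕ} (hs : s < 7) : θA (pr (mv s)) * (pr (mv s))⁻¹ ∈ E0 := by
  have h := List.all_eq_true.mp theta_ok s (List.mem_range.mpr hs)
  have hm := List.all_eq_true.mp lt_mv s (List.mem_range.mpr hs)
  have := sound (ltW_append (ltW_sw hm) (ltW_rev hm)) (lt_ow _) h
  rw [pr_append, pr_rev, ← θ_pr hm] at this
  rw [this]; exact ow_mem _

theorem tr_pair {s : ℕ} (hs : s < 6) : pr (tr s) * presFi22.σ 0 = presFi22.σ 0 * pr (tr s) ∧
    pr (tr s) * presFi22.σ 6 = presFi22.σ 6 * pr (tr s) := by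
  have h := List.all_eq_true.mp pair_ok s (List.mem_range.mpr hs)
  rw [Bool.and_eq_true] at h
  have h1 := sound (ltW_append (lt_tr hs) lt0) (ltW_append lt0 (lt_tr hs)) h.1
  have h2 := sound (ltW_append (lt_tr hs) lt6) (ltW_append lt6 (lt_tr hs)) h.2
  simp only [pr_append, pr_one] at h1 h2
  exact ⟨h1, h2⟩

theorem tr_eq (s : ℕ) : pr (tr s) = pr (kvs.getD s []) * presFi22.σ 0 * (pr (kvs.getD s []))⁻¹ := by
  rw [tr, pr_append, pr_append, pr_rev, pr_one]

theorem tr_sq (s : ℕ) : pr (tr s) * pr (tr s) = 1 := by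
  rw [tr_eq, show ∀ g x : presFi22.Grp, g * x * g⁻¹ * (g * x * g⁻¹) = g * (x * x) * g⁻¹ from fun g x => by group,
    presFi22.σ_sq, mul_one, mul_inv_cancel]

theorem cover_ok (d : ℕ) (hd : d < 3510) : fCover d = true :=
  okRange_sound cover1_ok (okRange_sound cover0_ok (fun d hd => absurd hd (Nat.not_lt_zero d))) d hd

theorem transp_cover {d : presFi22.Grp} (hd : d ∈ conjugatesOf (presFi22.σ 0))
    (h0 : d * presFi22.σ 0 = presFi22.σ 0 * d) (h6 : d * presFi22.σ 6 = presFi22.σ 6 * d) :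
    d ∈ Subgroup.closure (insert (presFi22.σ 0) (insert (presFi22.σ 6) gT)) := by
  have etz : tz = presFi22.σ 0 := by simp [tz]
  obtain ⟨q, hq⟩ := Fi3510.cert.isPt_of_mem Fi3510.hlt (etz.symm ▸ hd : d ∈ conjugatesOf tz)
  have f0 := (Fi3510.cert.isPt_fix Fi3510.hlt stabIsCent hq (presFi22.σ 0)).mpr h0.symm
  have f6 := (Fi3510.cert.isPt_fix Fi3510.hlt stabIsCent hq (presFi22.σ 6)).mpr h6.symm
  have g0 := hom_pr lt0 q
  have g6 := hom_pr lt6 q
  rw [pr_one, f0] at g0
  rw [pr_one, f6] at g6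
  have h := cover_ok q q.2
  simp only [fCover, List.reverse_singleton] at h g0 g6
  rw [← g0, ← g6, show Nat.beq (q : ℕ) q = true from Nat.beq_refl _, Bool.and_self, Bool.not_true, Bool.false_or,
    Bool.or_eq_true, Bool.or_eq_true] at h
  rcases h with h | h | h
  · have e : q = ⟨qOf 0, qOf_lt 0 (by norm_num)⟩ := Fin.ext ((Nat.eq_of_beq_eq_true h).trans rfl)
    rw [e] at hq
    rw [Fi3510.cert.isPt_unique Fi3510.hlt stabIsCent hq (pt_gen 0 (by norm_num))]
    exact Subgroup.subset_closure (Set.mem_insert _ _)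
  · have e : q = ⟨qOf 6, qOf_lt 6 (by norm_num)⟩ := Fin.ext (Nat.eq_of_beq_eq_true h)
    rw [e] at hq
    rw [Fi3510.cert.isPt_unique Fi3510.hlt stabIsCent hq (pt_gen 6 (by norm_num))]
    exact Subgroup.subset_closure (Set.mem_insert_of_mem _ (Set.mem_insert _ _))
  · obtain ⟨e, he, hb⟩ := List.any_eq_true.mp h
    have hent := List.all_eq_true.mp entry_ok e he
    simp only [Bool.and_eq_true, List.all_eq_true, blt_iff] at hent
    obtain ⟨⟨hi, hpath⟩, hrun⟩ := hent
    obtain ⟨qq, path, i⟩ := e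
    simp only at hi hpath hrun hb
    have hlt : ∀ p : List ℕ, (∀ x ∈ p, x < 6) → ltW (vw p i) = true := by
      intro p hp
      induction p with
      | nil => simpa [vw] using lt_kvi i
      | cons s p ih =>
        rw [vw, List.flatMap_cons, List.append_assoc]
        exact ltW_append (lt_tr (hp s List.mem_cons_self)) (ih fun x hx => hp x (List.mem_cons_of_mem _ hx))
    have hmem : ∀ p : List ℕ, (∀ x ∈ p, x < 6) → pr (vw p i) * presFi22.σ 0 * (pr (vw p i))⁻¹ ∈
        Subgroup.closure (insert (presFi22.σ 0) (insert (presFi22.σ 6) gT)) := by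
      intro p hp
      induction p with
      | nil =>
        rw [show vw [] i = kvs.getD i [] by simp [vw], ← tr_eq]
        exact Subgroup.subset_closure (Set.mem_insert_of_mem _ (Set.mem_insert_of_mem _ ⟨i, hi, rfl⟩))
      | cons s p ih =>
        have ht : pr (tr s) ∈ Subgroup.closure (insert (presFi22.σ 0) (insert (presFi22.σ 6) gT)) :=
          Subgroup.subset_closure (Set.mem_insert_of_mem _ (Set.mem_insert_of_mem _ ⟨s, hp s List.mem_cons_self, rfl⟩))
        rw [show vw (s :: p) i = tr s ++ vw p i by simp [vw], pr_append]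
        have := mul_mem (mul_mem ht (ih fun x hx => hp x (List.mem_cons_of_mem _ hx))) (inv_mem ht)
        simpa [mul_assoc] using this
    have hp0 := Fi3510.cert.isPt_conj Fi3510.hlt (Fi3510.cert.isPt_base Fi3510.hlt (t := tz)) (pr (vw path i))
    have e' : Fi3510.cert.hom Fi3510.hlt (pr (vw path i)) ⟨0, Fi3510.cert.hn⟩ = q := Fin.ext (by
      rw [hom_pr (hlt path hpath)]
      exact (Nat.eq_of_beq_eq_true hrun).trans (Nat.eq_of_beq_eq_true hb))
    rw [e'] at hp0
    rw [Fi3510.cert.isPt_unique Fi3510.hlt stabIsCent hq hp0, etz]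
    exact hmem path hpath

theorem six_mem : presFi22.σ 6 ∈ conjugatesOf (presFi22.σ 0) := by
  have h := Fi3510.cert.isPt_mem Fi3510.hlt (pt_gen 6 (by norm_num))
  rwa [show tz = presFi22.σ 0 by simp [tz]] at h

theorem exists_inner (α : MulAut presFi22.Grp) :
    ∃ g : presFi22.Grp, α = MulAut.conj g ∨ α = MulAut.conj g * θA := by
  have hidx : (Cfsg.Inn presFi22.Grp).index = 2 := Fi22Aut.card_out
  by_cases h : α ∈ Cfsg.Inn presFi22.Grp
  · obtain ⟨g, hg⟩ := h
    exact ⟨g, Or.inl hg.symm⟩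
  · have : α * θA⁻¹ ∈ Cfsg.Inn presFi22.Grp :=
      (Subgroup.mul_mem_iff_of_index_two hidx).mpr ⟨fun h' => absurd h' h, fun h' => absurd (inv_mem_iff.mp h') Fi22Aut.θA_outer⟩
    obtain ⟨g, hg⟩ := this
    exact ⟨g, Or.inr (by rw [hg, inv_mul_cancel_right])⟩

section Transport

open CfsgThreeTrans.M22.PairAut

variable {G : Type*} [Group G] [Finite G] (ψ : presFi22.Grp ≃* G)

theorem map_E0 {x : presFi22.Grp} (hx : x ∈ E0) : ψ x ∈ rad (ψ (presFi22.σ 0)) (ψ (presFi22.σ 6)) (fun k => ψ (gU k)) := by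
  have : E0 ≤ (rad (ψ (presFi22.σ 0)) (ψ (presFi22.σ 6)) (fun k => ψ (gU k))).comap ψ.toMonoidHom := by
    refine (Subgroup.closure_le _).mpr ?_
    rintro z (rfl | rfl | ⟨k, rfl⟩) <;> rw [SetLike.mem_coe, Subgroup.mem_comap]
    exacts [a_mem_rad, c_mem_rad, u_mem_rad (u := fun k => ψ (gU k)) k]
  exact this hx

theorem data
    (hsplit : ∀ x ∈ Subgroup.centralizer ({ψ (presFi22.σ 0) * ψ (presFi22.σ 6)} : Set G),
      x ∈ Subgroup.centralizer ({ψ (presFi22.σ 0), ψ (presFi22.σ 6)} : Set G) ∨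
        (ψ gS)⁻¹ * x ∈ Subgroup.centralizer ({ψ (presFi22.σ 0), ψ (presFi22.σ 6)} : Set G)) :
    PairData (ψ (presFi22.σ 0)) (ψ (presFi22.σ 6)) (MulAut.congr ψ θA) (fun k => ψ (gU k)) (ψ '' gT) (ψ gS) := by
  have hθ : ∀ x, MulAut.congr ψ θA (ψ x) = ψ (θA x) := fun x => by
    simp [MulAut.congr]
  have hidx : ∀ k : Fin 4 × Bool, 2 + 2 * k.1.val + cond k.2 1 0 < 10 := by decide
  refine
    { a2 := by rw [← map_mul, presFi22.σ_sq, map_one]
      c2 := by rw [← map_mul, presFi22.σ_sq, map_one]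
      ne := fun e => ne06 (ψ.injective e)
      ac := by rw [← map_mul, ← map_mul, comm06]
      θa := by rw [hθ]; exact congrArg ψ (θ_σ (x := 0) (by norm_num))
      θθ := ?_
      cen := ?_
      inner := ?_
      outer := ?_
      au := fun k => ?_
      cu := fun k => ?_
      θu := fun k => ?_
      uu := fun k l => ?_
      usq := fun k => ?_
      τK := ?_
      τn := ?_
      τu := ?_
      τθ := ?_
      σa := ?_
      σc := ?_
      σu := fun k => ?_
      σθ := ?_
      split := hsplit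
      braid := ?_
      moves := ?_
      wit := ?_ }
  · rw [← map_mul, show θA * θA = 1 from MulEquiv.ext Fi22Aut.θ_θ, map_one]
  · intro g hg
    obtain ⟨x, rfl⟩ := ψ.surjective g
    rw [central_one (g := x) fun b _ => ψ.injective (by rw [map_mul, map_mul]; exact hg _), map_one]
  · intro α
    obtain ⟨g, hg⟩ := exists_inner ((MulAut.congr ψ).symm α)
    refine ⟨ψ g, ?_⟩
    have hc : MulAut.congr ψ (MulAut.conj g) = MulAut.conj (ψ g) := MulEquiv.ext fun x => by
      simp [MulAut.congr]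
    rcases hg with hg | hg
    · exact Or.inl (by rw [← hc, ← hg, MulEquiv.apply_symm_apply])
    · exact Or.inr (by rw [← hc, ← map_mul, ← hg, MulEquiv.apply_symm_apply])
  · intro g hg
    obtain ⟨x, rfl⟩ := ψ.surjective g
    refine Fi22Aut.θA_outer ⟨x, MulEquiv.ext fun y => ψ.injective ?_⟩
    rw [← hθ, hg]
    simp [map_mul]
  · rw [← map_mul, ← map_mul]
    congr 1
    have h := comm_bw (i := 0) (by norm_num) (hidx k)
    rw [show bw 0 = [0] from rfl, pr_one, show ce 0 (2 + 2 * k.1.val + cond k.2 1 0) = [] from by simp [ce], pr_nil] at h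
    exact mul_inv_eq_iff_eq_mul.mp (mul_inv_eq_one.mp h)
  · rw [← map_mul, ← map_mul]
    congr 1
    have h := comm_bw (i := 1) (by norm_num) (hidx k)
    rw [show bw 1 = [6] from rfl, pr_one, show ce 1 (2 + 2 * k.1.val + cond k.2 1 0) = [] from by simp [ce], pr_nil] at h
    exact mul_inv_eq_iff_eq_mul.mp (mul_inv_eq_one.mp h)
  · rw [hθ]
    congr 1
    show θA (pr _) = pr _
    rw [θ_pr (lt_bw' _)]
    have h := List.all_eq_true.mp sw_ok _ (List.mem_range.mpr (hidx k))
    rw [Bool.or_eq_true] at h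
    exact sound (ltW_sw (lt_bw' _)) (lt_bw' _) (h.resolve_left fun e => by
      have := blt_iff.mp e; omega)
  · have hce : ∀ k l : Fin 4 × Bool, ce (2 + 2 * k.1.val + cond k.2 1 0) (2 + 2 * l.1.val + cond l.2 1 0) =
        if k.1 = l.1 ∧ k ≠ l then [0, 6] else [] := by decide
    have h := congrArg ψ (comm_bw (hidx k) (hidx l))
    simp only [map_mul, map_inv] at h
    refine h.trans ?_
    rw [hce]
    split_ifs
    · rw [pr_zero_six, map_mul]
    · rw [pr_nil, map_one]
  · rcases sq_bw (hidx k) with e | e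
    · exact Or.inl (by rw [← map_mul]; exact (congrArg ψ e).trans (map_one ψ))
    · exact Or.inr (by rw [← map_mul, ← map_mul]; exact congrArg ψ e)
  · rintro _ ⟨t, ⟨s, hs, rfl⟩, rfl⟩
    refine mem_pair.mpr ⟨?_, ?_⟩ <;> rw [← map_mul, ← map_mul]
    exacts [congrArg ψ (tr_pair hs).1, congrArg ψ (tr_pair hs).2]
  · rintro k hk _ ⟨t, ⟨s, hs, rfl⟩, rfl⟩
    obtain ⟨x, rfl⟩ := ψ.surjective k
    have hx := mem_pair.mp hk
    rw [← map_mul, ← map_mul, ψ.injective.eq_iff, ← map_mul, ← map_mul, ψ.injective.eq_iff] at hx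
    have hc : ∀ z, x * z = z * x → pr (tr s) * z = z * pr (tr s) →
        x * pr (tr s) * x⁻¹ * z = z * (x * pr (tr s) * x⁻¹) := by
      intro z h1 h2
      have h3 : x⁻¹ * z = z * x⁻¹ := (inv_mul_eq_iff_eq_mul.mpr (by rw [← mul_assoc, h1, mul_inv_cancel_right]))
      calc x * pr (tr s) * x⁻¹ * z = x * (pr (tr s) * (x⁻¹ * z)) := by group
        _ = x * (z * pr (tr s) * x⁻¹) := by rw [h3, ← mul_assoc (pr (tr s)), h2]
        _ = z * (x * pr (tr s) * x⁻¹) := by rw [mul_assoc z, ← mul_assoc x, h1]; group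
    have hd : x * pr (tr s) * x⁻¹ ∈ conjugatesOf (presFi22.σ 0) :=
      isConj_iff.mpr ⟨x * pr (kvs.getD s []), by rw [tr_eq]; group⟩
    have h := transp_cover hd (hc _ hx.1 (tr_pair hs).1) (hc _ hx.2 (tr_pair hs).2)
    have h' := Subgroup.mem_map_of_mem ψ.toMonoidHom h
    rw [MonoidHom.map_closure, Set.image_insert_eq, Set.image_insert_eq] at h'
    simpa [map_mul, map_inv] using h'
  · rintro _ ⟨t, ⟨s, hs, rfl⟩, rfl⟩ k
    have h := conj_mv (s := s) (by omega) (hidx k)
    rw [mv, if_pos hs] at h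
    have := map_E0 ψ h
    simpa [map_mul, map_inv, gU] using this
  · rintro _ ⟨t, ⟨s, hs, rfl⟩, rfl⟩
    have h := θ_mv (s := s) (by omega)
    rw [mv, if_pos hs] at h
    have := map_E0 ψ h
    rw [map_mul, map_inv, ← hθ] at this
    exact this
  · have h := sound (ltW_append lt_sig lt0) (ltW_append lt6 lt_sig) (by
      have := swap_ok; rw [fSwap, Bool.and_eq_true] at this; exact this.1)
    rw [pr_append, pr_append, pr_one, pr_one] at h
    rw [mul_inv_eq_iff_eq_mul, ← map_mul, ← map_mul]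
    exact congrArg ψ h
  · have h := sound (ltW_append lt_sig lt6) (ltW_append lt0 lt_sig) (by
      have := swap_ok; rw [fSwap, Bool.and_eq_true] at this; exact this.2)
    rw [pr_append, pr_append, pr_one, pr_one] at h
    rw [mul_inv_eq_iff_eq_mul, ← map_mul, ← map_mul]
    exact congrArg ψ h
  · have h := conj_mv (s := 6) (by norm_num) (hidx k)
    rw [show mv 6 = sigW from rfl] at h
    have := map_E0 ψ h
    simpa [map_mul, map_inv, gU, gS] using this
  · have h := θ_mv (s := 6) (by norm_num)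
    rw [show mv 6 = sigW from rfl] at h
    have := map_E0 ψ h
    rw [map_mul, map_inv, ← hθ] at this
    exact this
  · obtain ⟨hm, -, -, -, -⟩ : (!eqW (tr 0 ++ tr 1) (tr 1 ++ tr 0)) = true ∧ _ ∧ _ ∧ _ ∧ _ := by
      have := moves_ok; simp only [fMoves, Bool.and_eq_true, and_assoc] at this; exact this
    rw [Bool.not_eq_true'] at hm
    have hne := ne_of (ltW_append (lt_tr (by norm_num)) (lt_tr (by norm_num)))
      (ltW_append (lt_tr (by norm_num)) (lt_tr (by norm_num))) hm
    rw [pr_append, pr_append] at hne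
    have hb := sound (u := tr 0 ++ tr 1 ++ tr 0) (v := tr 1 ++ tr 0 ++ tr 1)
      (ltW_append (ltW_append (lt_tr (by norm_num)) (lt_tr (by norm_num))) (lt_tr (by norm_num)))
      (ltW_append (ltW_append (lt_tr (by norm_num)) (lt_tr (by norm_num))) (lt_tr (by norm_num))) (by decide +kernel)
    simp only [pr_append] at hb
    refine ⟨_, ⟨_, ⟨0, by norm_num, rfl⟩, rfl⟩, _, ⟨_, ⟨1, by norm_num, rfl⟩, rfl⟩, ?_, ?_, ?_, ?_⟩
    · rw [← map_mul, tr_sq, map_one]
    · rw [← map_mul, tr_sq, map_one]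
    · simp only [← map_mul]; exact congrArg ψ hb
    · simp only [← map_mul]; exact fun e => hne (ψ.injective e)
  · obtain ⟨-, m1, m2, m3, m4⟩ : _ ∧ (!eqW (tr 0 ++ bw 2 ++ (tr 0).reverse ++ (bw 2).reverse) []) = true ∧
        (!eqW (tr 0 ++ bw 2 ++ (tr 0).reverse ++ (bw 2).reverse) [0]) = true ∧
        (!eqW (tr 0 ++ bw 2 ++ (tr 0).reverse ++ (bw 2).reverse) [6]) = true ∧
        (!eqW (tr 0 ++ bw 2 ++ (tr 0).reverse ++ (bw 2).reverse) [0, 6]) = true := by
      have := moves_ok; simp only [fMoves, Bool.and_eq_true, and_assoc] at this; exact this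
    rw [Bool.not_eq_true'] at m1 m2 m3 m4
    have hw : ltW (tr 0 ++ bw 2 ++ (tr 0).reverse ++ (bw 2).reverse) = true :=
      ltW_append (ltW_append (ltW_append (lt_tr (by norm_num)) (lt_bw' 2)) (ltW_rev (lt_tr (by norm_num))))
        (ltW_rev (lt_bw' 2))
    refine ⟨_, ⟨_, ⟨0, by norm_num, rfl⟩, rfl⟩, (0, false), fun hmem => ?_⟩
    have e : (pr (tr 0 ++ bw 2 ++ (tr 0).reverse ++ (bw 2).reverse)) =
        pr (tr 0) * gU (0, false) * (pr (tr 0))⁻¹ * (gU (0, false))⁻¹ := by
      rw [pr_append, pr_append, pr_append, pr_rev, pr_rev]; rfl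
    simp only [← map_mul, ← map_inv] at hmem
    rw [← e] at hmem
    have hle : Subgroup.closure ({ψ (presFi22.σ 0), ψ (presFi22.σ 6)} : Set G) ≤
        (Subgroup.closure ({presFi22.σ 0, presFi22.σ 6} : Set presFi22.Grp)).map ψ.toMonoidHom := by
      rw [MonoidHom.map_closure, Set.image_insert_eq, Set.image_singleton]
      exact le_rfl
    obtain ⟨y, hy, hye⟩ := hle hmem
    have hy' := ψ.injective hye
    subst hy'
    have h4 : ∀ v ∈ Subgroup.closure ({presFi22.σ 0, presFi22.σ 6} : Set presFi22.Grp),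
        v = pr [] ∨ v = pr [0] ∨ v = pr [6] ∨ v = pr [0, 6] := by
      intro v hv
      rw [pr_nil, pr_one, pr_one, pr_zero_six]
      have s0 := presFi22.σ_sq 0
      have s6 := presFi22.σ_sq 6
      have e1 : presFi22.σ 0 * (presFi22.σ 0 * presFi22.σ 6) = presFi22.σ 6 := by rw [← mul_assoc, s0, one_mul]
      have e2 : presFi22.σ 6 * (presFi22.σ 0 * presFi22.σ 6) = presFi22.σ 0 := by
        rw [comm06, ← mul_assoc, s6, one_mul]
      have e3 : presFi22.σ 0 * presFi22.σ 6 * presFi22.σ 6 = presFi22.σ 0 := by rw [mul_assoc, s6, mul_one]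
      have e4 : presFi22.σ 0 * presFi22.σ 6 * presFi22.σ 0 = presFi22.σ 6 := by
        rw [comm06, mul_assoc, s0, mul_one]
      have e5 : presFi22.σ 0 * presFi22.σ 6 * (presFi22.σ 0 * presFi22.σ 6) = 1 := by rw [← mul_assoc, e4, s6]
      induction hv using Subgroup.closure_induction with
      | mem z hz => rcases hz with rfl | rfl <;> simp
      | one => simp
      | mul p q _ _ ih ih' =>
        rcases ih with rfl | rfl | rfl | rfl <;> rcases ih' with rfl | rfl | rfl | rfl <;>
          simp [s0, s6, e1, e2, e3, e4, e5, comm06.symm]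
      | inv p _ ih =>
        rcases ih with rfl | rfl | rfl | rfl
        · simp
        · exact Or.inr (Or.inl (inv_eq_of_mul_eq_one_left s0))
        · exact Or.inr (Or.inr (Or.inl (inv_eq_of_mul_eq_one_left s6)))
        · exact Or.inr (Or.inr (Or.inr (inv_eq_of_mul_eq_one_left e5)))
    rcases h4 _ hy with e' | e' | e' | e'
    exacts [ne_of hw rfl m1 e', ne_of hw lt0 m2 e', ne_of hw lt6 m3 e', ne_of hw lt06 m4 e']
  · have h := sound (ltW_append (ltW_append lt_gw lt06) (ltW_rev lt_gw)) (lt_bw' 2) wit_ok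
    rw [pr_append, pr_append, pr_rev, pr_zero_six] at h
    refine ⟨ψ (pr gW), ?_⟩
    rw [← map_mul, ← map_inv, ← map_mul, ← map_mul]
    exact congrArg ψ h

end Transport

end CfsgLib.CosetEnum.Fi22Pair
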